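import Mathlib
import Groth.Agent.ArtFunLib.PS
import Groth.Agent.CompleteSurjLib.Basic
import Groth.Agent.FiniteCompleteLib.Basic

/-!
# Power series and derivations to trivial square-zero extensions
-/

set_option autoImplicit false
set_option linter.unusedSectionVars false

universe u

open MvPowerSeries IsLocalRing TrivSqZeroExt

namespace Groth.Agent.PSSmoothLib

variable {k : Type u} [Field k] {n : ℕ}

theorem maximalIdeal_eq_span : maximalIdeal (MvPowerSeries (Fin n) k) = Ideal.span (Set.range X) := by
  classical
  refine le_antisymm (fun f hf => ?_) (Ideal.span_le.mpr (Set.range_subset_iff.mpr fun i => ?_))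
  · have hf0 : constantCoeff f = 0 := by
      by_contra h
      exact hf (MvPowerSeries.isUnit_iff_constantCoeff.mpr (isUnit_iff_ne_zero.mpr h))
    let h : Fin n → MvPowerSeries (Fin n) k := fun i e =>
      if (e + Finsupp.single i 1).support.min = (i : WithTop (Fin n)) then coeff (e + Finsupp.single i 1) f else 0
    have hfh : f = ∑ i, X i * h i := by
      ext d
      rw [map_sum]
      simp only [X, coeff_monomial_mul, one_mul]
      by_cases hd : d = 0
      · subst hd
        rw [coeff_zero_eq_constantCoeff_apply, hf0, Finset.sum_eq_zero]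
        intro i _
        rw [if_neg]
        intro hle
        simpa using hle i
      obtain ⟨i₀, hi₀⟩ := Finset.min_of_nonempty (Finsupp.support_nonempty_iff.mpr hd)
      have hle : Finsupp.single i₀ 1 ≤ d := Finsupp.single_le_iff.mpr
        (Nat.one_le_iff_ne_zero.mpr (Finsupp.mem_support_iff.mp (Finset.mem_of_min hi₀)))
      rw [Finset.sum_eq_single i₀]
      · rw [if_pos hle]
        show _ = if _ then _ else _
        rw [tsub_add_cancel_of_le hle, if_pos hi₀]
      · intro i _ hi
        split_ifs with hle'
        · change (if _ then _ else (0 : k)) = 0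
          rw [tsub_add_cancel_of_le hle', if_neg]
          rw [hi₀]
          exact fun he => hi (WithTop.coe_injective he).symm
        · rfl
      · simp
    rw [hfh]
    exact Ideal.sum_mem _ fun i _ => Ideal.mul_mem_right _ _ (Ideal.subset_span (Set.mem_range_self i))
  · exact fun h => by simpa using MvPowerSeries.isUnit_iff_constantCoeff.mp h

instance isAdicComplete_maximalIdeal : IsAdicComplete (maximalIdeal (MvPowerSeries (Fin n) k))
    (MvPowerSeries (Fin n) k) := by
  rw [maximalIdeal_eq_span]
  infer_instance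

theorem one_le_order {f : MvPowerSeries (Fin n) k} (hf : f ∈ maximalIdeal (MvPowerSeries (Fin n) k)) :
    (1 : ℕ∞) ≤ f.order := by
  refine nat_le_order fun d hd => ?_
  obtain rfl : d = 0 := (Finsupp.degree_eq_zero_iff d).mp (by omega)
  by_contra h
  exact hf (MvPowerSeries.isUnit_iff_constantCoeff.mpr (isUnit_iff_ne_zero.mpr h))

/-- The series of order at least `d`. -/
def orderIdeal (d : ℕ) : Ideal (MvPowerSeries (Fin n) k) where
  carrier := {f | (d : ℕ∞) ≤ f.order}
  add_mem' := fun ha hb => (le_min ha hb).trans min_order_le_add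
  zero_mem' := by simp
  smul_mem' := fun c f hf => by
    rw [smul_eq_mul]
    exact (le_add_self.trans' hf).trans le_order_mul

theorem orderIdeal_mul (a b : ℕ) :
    orderIdeal (k := k) (n := n) a * orderIdeal b ≤ orderIdeal (a + b) :=
  Ideal.mul_le.mpr fun f hf g hg => by
    show ((a + b : ℕ) : ℕ∞) ≤ (f * g).order
    push_cast
    exact (add_le_add hf hg).trans le_order_mul

theorem pow_le_orderIdeal (d : ℕ) : maximalIdeal (MvPowerSeries (Fin n) k) ^ d ≤ orderIdeal d := by
  induction d with
  | zero => exact fun f _ => by show ((0 : ℕ) : ℕ∞) ≤ f.order; simp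
  | succ d ih =>
    rw [pow_succ]
    exact (Ideal.mul_mono ih fun f hf => one_le_order hf).trans (orderIdeal_mul d 1)

theorem pderiv_mem_orderIdeal {d : ℕ} {f : MvPowerSeries (Fin n) k} (hf : f ∈ orderIdeal (d + 1)) (i : Fin n) :
    pderiv k i f ∈ orderIdeal d := by
  refine nat_le_order fun e he => ?_
  rw [coeff_pderiv, coeff_of_lt_order, zero_mul]
  refine lt_of_lt_of_le ?_ hf
  rw [map_add, Finsupp.degree_single]
  exact_mod_cast Nat.add_lt_add_right he 1

theorem mem_orderIdeal_of_pderiv [CharZero k] {d : ℕ} {f : MvPowerSeries (Fin n) k}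
    (hf₀ : constantCoeff f = 0) (hf : ∀ i, pderiv k i f ∈ orderIdeal d) : f ∈ orderIdeal (d + 1) := by
  classical
  refine nat_le_order fun e he => ?_
  by_cases h0 : e = 0
  · subst h0; exact hf₀
  obtain ⟨i, hi⟩ := Finsupp.support_nonempty_iff.mpr h0
  have hle : Finsupp.single i 1 ≤ e :=
    Finsupp.single_le_iff.mpr (Nat.one_le_iff_ne_zero.mpr (Finsupp.mem_support_iff.mp hi))
  have hdeg : (e - Finsupp.single i 1).degree < d := by
    have := congrArg Finsupp.degree (tsub_add_cancel_of_le hle)
    rw [map_add, Finsupp.degree_single] at this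
    omega
  have hz : coeff (e - Finsupp.single i 1) (pderiv k i f) = 0 :=
    coeff_of_lt_order ((Nat.cast_lt.mpr hdeg).trans_le (hf i))
  rw [coeff_pderiv, tsub_add_cancel_of_le hle] at hz
  exact (mul_eq_zero.mp hz).resolve_right (Nat.cast_add_one_ne_zero _)

variable {A : Type u} [CommRing A] [Algebra k A] {M : Type u} [AddCommGroup M] [Module A M] [Module Aᵐᵒᵖ M]
  [IsCentralScalar A M] [Module k M] [IsScalarTower k A M] [IsScalarTower k Aᵐᵒᵖ M]

/-- The homomorphism with given value on the variables. -/
noncomputable def derHom (Q : MvPowerSeries (Fin n) k →ₐ[k] A) (D : Fin n → M) :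
    MvPowerSeries (Fin n) k →ₐ[k] TrivSqZeroExt A M where
  toFun p := inl (Q p) + inr (∑ i, Q (pderiv k i p) • D i)
  map_one' := by ext <;> simp
  map_mul' p q := by
    ext
    · simp
    · simp only [map_mul, snd_add, snd_inl, snd_inr, snd_mul, fst_add, fst_inl, fst_inr, add_zero, zero_add,
        op_smul_eq_smul, Finset.smul_sum, ← Finset.sum_add_distrib, Derivation.leibniz, smul_eq_mul, map_add,
        add_smul, ← mul_smul]
  map_zero' := by ext <;> simp
  map_add' p q := by
    ext
    · simp
    · simp [add_smul, Finset.sum_add_distrib]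
  commutes' c := by
    ext
    · simp [TrivSqZeroExt.algebraMap_eq_inl']
    · simp [TrivSqZeroExt.algebraMap_eq_inl', MvPowerSeries.algebraMap_apply]

theorem fst_derHom (Q : MvPowerSeries (Fin n) k →ₐ[k] A) (D : Fin n → M) (p : MvPowerSeries (Fin n) k) :
    (derHom Q D p).fst = Q p := by
  simp [derHom]

theorem snd_derHom (Q : MvPowerSeries (Fin n) k →ₐ[k] A) (D : Fin n → M) (p : MvPowerSeries (Fin n) k) :
    (derHom Q D p).snd = ∑ i, Q (pderiv k i p) • D i := by
  simp [derHom]

theorem snd_derHom_X (Q : MvPowerSeries (Fin n) k →ₐ[k] A) (D : Fin n → M) (j : Fin n) :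
    (derHom Q D (X j)).snd = D j := by
  classical
  rw [snd_derHom, Finset.sum_eq_single j]
  · rw [pderiv_X_self, map_one, one_smul]
  · intro i _ hi
    rw [pderiv_X_of_ne (Ne.symm hi), map_zero, zero_smul]
  · simp

theorem isNilpotent_comap_fst {I : Ideal A} (hI : IsNilpotent I) :
    IsNilpotent (I.comap (fstHom k A M)) := by
  obtain ⟨N, hN⟩ := hI
  refine ⟨N + N, ?_⟩
  rw [pow_add, Submodule.zero_eq_bot, eq_bot_iff, Ideal.mul_le]
  have hfst : ∀ r ∈ I.comap (fstHom k A M) ^ N, r.fst = 0 := fun r hr => by
    have := Ideal.le_comap_pow (fstHom k A M) N hr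
    rw [hN] at this
    exact this
  intro r hr s hs
  rw [Ideal.mem_bot]
  ext
  · rw [fst_mul, hfst r hr, zero_mul, fst_zero]
  · rw [snd_mul, hfst r hr, hfst s hs, MulOpposite.op_zero, zero_smul, zero_smul, add_zero, snd_zero]

omit [Algebra k A] in
/-- An algebra map from power series to the residue field kills the variables. -/
theorem apply_X_eq_zero (χ : MvPowerSeries (Fin n) k →ₐ[k] k) (i : Fin n) : χ (X i) = 0 := by
  by_contra h
  have hu : IsUnit (X i - algebraMap k (MvPowerSeries (Fin n) k) (χ (X i))) := by
    rw [MvPowerSeries.isUnit_iff_constantCoeff, map_sub, constantCoeff_X, MvPowerSeries.algebraMap_apply,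
      constantCoeff_C, zero_sub]
    exact (isUnit_iff_ne_zero.mpr h).neg
  have := hu.map χ
  rw [map_sub, AlgHom.commutes, Algebra.algebraMap_self_apply, sub_self] at this
  exact not_isUnit_zero this

end Groth.Agent.PSSmoothLib
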